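import Groth.Agent.L21.RR.PointPow
import Groth.Agent.L21.RR.Coh
import Groth.Agent.L21.RR.Twist
import Groth.Agent.L03.Euler.Twist
import Groth.Agent.L22.Inter.Point
import Groth.Agent.L04.KSh.Div.Twisted
import Groth.Agent.L16.Rees.RelVanish
import Groth.Prelude.Def_W4c2seshadriposJets

/-!
# Higher cohomology of powers of the ideal of a closed point, twisted
-/

set_option autoImplicit false
set_option backward.isDefEq.respectTransparency false
set_option linter.style.haveILetI false

universe u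

open CategoryTheory CategoryTheory.Limits AlgebraicGeometry TopologicalSpace Opposite
open Groth.L16.CohLinear (hmap delta exact_hmap_hmap exact_delta_hmap)

noncomputable section

namespace Groth.L04.Seshadri

variable {X : Scheme.{u}}

theorem suppClosed_tensor {M L : X.Modules} (hL : PicF.IsInvertible L) (h : Groth.L21.RR.SuppClosed M) :
    Groth.L21.RR.SuppClosed (CohB1.tensorMod M L) := fun y hy => by
  have hy' : y ∉ CohB1.support M := fun h' => h' (h y hy)
  rw [← Groth.L03.Euler.support_tensor hL M] at hy'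
  exact not_not.1 hy'

/-- twisted cohomology in degree `≥ 1` surjects when the cokernel lives on closed points -/
theorem surjective_hmap [IsNoetherian X] {L : X.Modules} (hL : PicF.IsInvertible L) {S : ShortComplex X.Modules}
    (hS : S.ShortExact) (h : Groth.L21.RR.SuppClosed S.X₃) (n : ℕ) :
    Function.Surjective (hmap ((Groth.L00.Tensor.tensorRightF L).map S.f) (n + 1)) := fun y => by
  have hT := Groth.L03.Euler.shortExact_tensor hL hS
  haveI : Subsingleton (Coh.HH X ((Groth.L00.Tensor.tensorRightF L).obj S.X₃) (n + 1)) :=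
    Groth.L21.RR.subsingleton_HH_of_suppClosed (suppClosed_tensor hL h) n
  exact (exact_hmap_hmap hT (n + 1) y).1 (Subsingleton.elim (α := Coh.HH X ((Groth.L00.Tensor.tensorRightF L).obj S.X₃) (n + 1)) _ _)

/-- twisted cohomology of the subsheaf vanishes in degree `≥ 2` with that of the ambient sheaf -/
theorem subsingleton_of_suppClosed [IsNoetherian X] {L : X.Modules} (hL : PicF.IsInvertible L) {S : ShortComplex X.Modules}
    (hS : S.ShortExact) (h : Groth.L21.RR.SuppClosed S.X₃) (n : ℕ)
    (h2 : Subsingleton (Coh.HH X (CohB1.tensorMod S.X₂ L) (n + 2))) :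
    Subsingleton (Coh.HH X (CohB1.tensorMod S.X₁ L) (n + 2)) := by
  have hT := Groth.L03.Euler.shortExact_tensor hL hS
  haveI : Subsingleton (Coh.HH X ((Groth.L00.Tensor.tensorRightF L).obj S.X₃) (n + 1)) :=
    Groth.L21.RR.subsingleton_HH_of_suppClosed (suppClosed_tensor hL h) n
  haveI : Subsingleton (Coh.HH X ((Groth.L00.Tensor.tensorRightF L).obj S.X₂) (n + 2)) := h2
  refine subsingleton_of_forall_eq 0 fun y => ?_
  obtain ⟨z, rfl⟩ := (exact_delta_hmap hT (n + 1) y).1
    (Subsingleton.elim (α := Coh.HH X ((Groth.L00.Tensor.tensorRightF L).obj S.X₂) (n + 2)) _ _)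
  rw [Subsingleton.elim (α := Coh.HH X ((Groth.L00.Tensor.tensorRightF L).obj S.X₃) (n + 1)) z 0, map_zero]

theorem suppClosed_quot_pointPow {x : X} (hx : IsClosed ({x} : Set X)) (a : ℕ) :
    Groth.L21.RR.SuppClosed (ClSub.quotMod (W4c2seshadripos.pointIdeal x hx ^ a)) := fun y hy => by
  refine Groth.L21.RR.subsingleton_stalk_quotMod _ fun hys => hy ?_
  rcases a.eq_zero_or_pos with rfl | ha
  · simp at hys
  · rw [W4c2seshadripos.pointIdeal, Scheme.IdealSheafData.support_pow _ _ ha.ne'] at hys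
    exact (Set.mem_singleton_iff.1 (show y ∈ ({x} : Set X) from hys)).symm ▸ hx

theorem ideal_pow_succ_le (I : X.IdealSheafData) (a : ℕ) (V : X.affineOpens) :
    (I ^ (a + 1)).ideal V ≤ (I ^ a).ideal V := by
  rw [Scheme.IdealSheafData.ideal_pow, Scheme.IdealSheafData.ideal_pow, Pi.pow_apply, Pi.pow_apply]
  exact Ideal.pow_le_pow_right a.le_succ

/-- `0 → m^{a+1} → m^a → gr → 0` -/
def powSeq (I : X.IdealSheafData) (a : ℕ) : ShortComplex X.Modules :=
  ShortComplex.mk (Groth.L04.KSh.inclMap (ideal_pow_succ_le I a))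
    (cokernel.π _) (cokernel.condition _)

theorem shortExact_powSeq (I : X.IdealSheafData) (a : ℕ) : (powSeq I a).ShortExact :=
  { exact := ShortComplex.exact_cokernel _
    mono_f := by
      haveI : Mono (Groth.L04.KSh.inclMap (ideal_pow_succ_le I a) ≫ ClSub.idealModι (I ^ a)) := by
        rw [Groth.L04.KSh.inclMap_ι]
        exact inferInstanceAs (Mono (kernel.ι _))
      exact mono_of_mono (Groth.L04.KSh.inclMap (ideal_pow_succ_le I a)) (ClSub.idealModι (I ^ a))
    epi_g := inferInstanceAs (Epi (cokernel.π _)) }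

open Groth.L21.RR in
theorem suppClosed_powSeq {x : X} (hx : IsClosed ({x} : Set X)) (a : ℕ) :
    SuppClosed (powSeq (W4c2seshadripos.pointIdeal x hx) a).X₃ := fun y hy => by
  have hne : y ≠ x := fun h => hy (h ▸ hx)
  let i := Groth.L04.KSh.inclMap (ideal_pow_succ_le (W4c2seshadripos.pointIdeal x hx) a)
  have hinj : Function.Injective (st (ClSub.idealModι (W4c2seshadripos.pointIdeal x hx ^ a)) y) :=
    (Groth.L21.Mod.mono_iff_stalk_injective _).1 (inferInstanceAs (Mono (kernel.ι _))) y
  refine subsingleton_of_forall_eq 0 fun v => ?_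
  obtain ⟨w, rfl⟩ := (Groth.L21.Mod.epi_iff_stalk_surjective (cokernel.π i)).1 inferInstance y v
  obtain ⟨u, hu⟩ := surjective_st_idealModι_pow_of_ne hx (a + 1) hne
    (st (ClSub.idealModι (W4c2seshadripos.pointIdeal x hx ^ a)) y w)
  have hw : st i y u = w := hinj (by
    rw [← hu, ← st_comp, Groth.L04.KSh.inclMap_ι]
    rfl)
  rw [← hw]
  show st (cokernel.π i) y (st i y u) = 0
  rw [← st_comp, cokernel.condition, st, Functor.map_zero]
  rfl

theorem nontrivial_succ (k : Type u) [Field k] [X.Over (Spec (CommRingCat.of k))]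
    [IsProper (X ↘ (Spec (CommRingCat.of k)))] {x : X} (hx : IsClosed ({x} : Set X)) {L : X.Modules}
    (hL : PicF.IsInvertible L) (a : ℕ)
    (h : Nontrivial (Coh.HH X (CohB1.tensorMod (ClSub.idealMod (W4c2seshadripos.pointIdeal x hx ^ a)) L) 1)) :
    Nontrivial (Coh.HH X (CohB1.tensorMod (ClSub.idealMod (W4c2seshadripos.pointIdeal x hx ^ (a + 1))) L) 1) := by
  haveI := Groth.L21.RR.isNoetherian_of_proper (X := X) k
  exact @Function.Surjective.nontrivial _ _ h _ (surjective_hmap hL (shortExact_powSeq _ a) (suppClosed_powSeq hx a) 0)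

theorem exists_vanishing (k : Type u) [Field k] [X.Over (Spec (CommRingCat.of k))]
    [IsProper (X ↘ (Spec (CommRingCat.of k)))] {x : X} (hx : IsClosed ({x} : Set X)) {L : X.Modules}
    (hL : CohB1.IsAmple L) :
    ∃ m₀ : ℕ, ∀ m : ℕ, m₀ ≤ m → ∀ i : ℕ, 1 < i → ∀ a : ℕ,
      Subsingleton (Coh.HH X (CohB1.tensorMod (ClSub.idealMod (W4c2seshadripos.pointIdeal x hx ^ a))
        (CohB1.tensorPow L m)) i) := by
  haveI := Groth.L21.RR.isNoetherian_of_proper (X := X) k
  obtain ⟨m₀, hm⟩ := Groth.L16.Rees.RelVanish.exists_vanishing (X ↘ Spec (CommRingCat.of k)) hL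
    (Groth.L16.CohClosedPush.isCoh_structure (X := X))
  refine ⟨m₀, fun m hmm i hi a => ?_⟩
  obtain ⟨n, rfl⟩ : ∃ n, i = n + 2 := ⟨i - 2, by omega⟩
  exact subsingleton_of_suppClosed (Groth.L18.Ample.isInvertible_tensorPow hL.1 m)
    (Groth.L21.RR.shortExact_idealSeq _) (suppClosed_quot_pointPow hx a) n (hm m hmm (n + 2) (by omega))

end Groth.L04.Seshadri
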